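import Groth.Agent.LocH.Depth
import Mathlib.RingTheory.Regular.RegularSequence
import Mathlib.Algebra.Module.FinitePresentation

/-! `depth Hom(M,N) ≥ min(2, depth N)`. -/

set_option autoImplicit false
universe u

namespace Groth.Agent.DepthHom

open RingTheory.Sequence

variable {R : Type u} [CommRing R] {M N : Type u} [AddCommGroup M] [Module R M] [AddCommGroup N] [Module R N]

theorem isSMulRegular_hom {x : R} (hx : IsSMulRegular N x) : IsSMulRegular (M →ₗ[R] N) x :=
  fun _ _ h => LinearMap.ext fun a => hx (LinearMap.congr_fun h a)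

theorem isWeaklyRegular_hom_pair {x y : R} (h : IsWeaklyRegular N [x, y]) : IsWeaklyRegular (M →ₗ[R] N) [x, y] := by
  rw [isWeaklyRegular_cons_iff, isWeaklyRegular_singleton_iff] at h ⊢
  refine ⟨isSMulRegular_hom h.1, isSMulRegular_iff_right_eq_zero_of_smul.2 fun φ hφ => ?_⟩
  obtain ⟨φ, rfl⟩ := Submodule.Quotient.mk_surjective _ φ
  rw [← Submodule.Quotient.mk_smul, Submodule.Quotient.mk_eq_zero, Submodule.mem_smul_pointwise_iff_exists] at hφ
  obtain ⟨ψ, -, hψ⟩ := hφ
  have hd : ∀ a, ∃ b : N, x • b = φ a := fun a => by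
    have h0 : (Submodule.Quotient.mk (φ a) : QuotSMulTop x N) = 0 := by
      refine isSMulRegular_iff_right_eq_zero_of_smul.1 h.2 _ ?_
      rw [← Submodule.Quotient.mk_smul, Submodule.Quotient.mk_eq_zero, Submodule.mem_smul_pointwise_iff_exists]
      exact ⟨ψ a, trivial, LinearMap.congr_fun hψ a⟩
    rw [Submodule.Quotient.mk_eq_zero, Submodule.mem_smul_pointwise_iff_exists] at h0
    obtain ⟨b, -, hb⟩ := h0
    exact ⟨b, hb⟩
  choose θ hθ using hd
  let t : M →ₗ[R] N :=
    { toFun := θ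
      map_add' := fun a b => h.1 (by show x • θ (a + b) = x • (θ a + θ b); rw [smul_add, hθ, hθ, hθ, map_add])
      map_smul' := fun c a => h.1 (by show x • θ (c • a) = x • (c • θ a); rw [smul_comm x c, hθ, hθ, map_smul]) }
  rw [Submodule.Quotient.mk_eq_zero, Submodule.mem_smul_pointwise_iff_exists]
  exact ⟨t, trivial, LinearMap.ext fun a => hθ a⟩

theorem le_idealDepth_hom [IsNoetherianRing R] [Module.Finite R M] [Module.Finite R N] (I : Ideal R) (n : ℕ) (hn : n ≤ 2)
    (h : (n : ℕ∞) ≤ LocCoh.idealDepth I N) : (n : ℕ∞) ≤ LocCoh.idealDepth I (M →ₗ[R] N) := by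
  haveI : Module.Finite R (M →ₗ[R] N) := inferInstance
  obtain ⟨rs, hlen, hreg, hmem⟩ := LocH.exists_isWeaklyRegular I n N ((LocH.le_idealDepth_iff I N n).1 h)
  refine (LocH.le_idealDepth_iff I _ n).2 fun i hi => LocH.subsingleton_of_isWeaklyRegular I rs _ ?_ hmem i (hlen.symm ▸ hi)
  match rs, hreg with
  | [], _ => exact IsWeaklyRegular.nil _ _
  | [x], hreg => exact (isWeaklyRegular_singleton_iff _ _).2 (isSMulRegular_hom ((isWeaklyRegular_singleton_iff _ _).1 hreg))
  | [x, y], hreg => exact isWeaklyRegular_hom_pair hreg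
  | _ :: _ :: _ :: _, _ => simp only [List.length_cons] at hlen; omega

end Groth.Agent.DepthHom
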